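import Mathlib
import Cfsg.Agent.H459.Inv.Base
import Cfsg.Agent.H877.RadPSL

/-!
# `PSL_n(q)`, `q` even: the monomial case of S3830

`mon_ns` : conjugation by a monomial matrix over an element of order `p` of `A_n` has `NS`, if `A_n` has it.
-/

set_option autoImplicit false
set_option linter.unusedSectionVars false

namespace Cfsg.Agent.H328.Inv

open Subgroup Cfsg Matrix Cfsg.Agent.H459.Rad Cfsg.Agent.H459.Iface Cfsg.Agent.H459.Inv
open Cfsg.Agent.ClassicalGeometry.AutPSL.Root Cfsg.Agent.ClassicalGeometry.AutPSL.Auto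
  Cfsg.Agent.ClassicalGeometry.AutPSL.Main Cfsg.Agent.Schreier.ClassPSL Cfsg.Agent.BpLin
open Cfsg.Agent.H469.RowPSL (mt mt_mul mt_one mt_mul_inv mt_inv_mul mt_inj mt_pow)
open Cfsg.Agent.H877.RadPSL

universe u

variable {F : Type*} [Field F] {n : ℕ}

/-- an involution of `A_n` lifts to an involution of the monomial group -/
theorem exists_rel_two {σ : Equiv.Perm (Fin n)} (hσ : σ ∈ alternatingGroup (Fin n)) (h2 : orderOf σ = 2) :
    ∃ m : Matrix.ProjectiveSpecialLinearGroup (Fin n) F, Rel m σ ∧ orderOf m = 2 := by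
  have hdet : ((σ⁻¹).permMatrix F).det = 1 := by
    rw [det_permutation, Equiv.Perm.sign_inv, Equiv.Perm.mem_alternatingGroup.mp hσ]
    simp
  set g : Matrix.SpecialLinearGroup (Fin n) F := ⟨(σ⁻¹).permMatrix F, hdet⟩ with hg
  have hrel : Rel (pr g) σ := by
    refine ⟨g, rfl, ?_⟩
    intro i j h
    change (σ⁻¹).permMatrix F i j ≠ 0 at h
    by_contra hij
    apply h
    rw [Equiv.Perm.permMatrix, PEquiv.toMatrix_apply, Equiv.toPEquiv_apply, if_neg]
    simp only [Option.mem_def, Option.some.injEq]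
    rintro rfl
    exact hij (by simp)
  refine ⟨pr g, hrel, ?_⟩
  have : Fact (Nat.Prime 2) := ⟨Nat.prime_two⟩
  apply orderOf_eq_prime
  · have h3 : σ * σ = 1 := by rw [← sq, ← h2, pow_orderOf_eq_one]
    have h4 : g * g = 1 := by
      apply mt_inj
      rw [mt_mul, mt_one]
      change (σ⁻¹).permMatrix F * (σ⁻¹).permMatrix F = 1
      rw [← Matrix.permMatrix_mul, ← _root_.mul_inv_rev, h3, inv_one, Matrix.permMatrix_one]
    rw [sq, ← map_mul, h4, map_one]
  · intro h3
    have h4 : σ = 1 := by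
      refine Rel.unique hrel ?_
      rw [h3]
      exact Rel.one
    rw [h4, orderOf_one] at h2
    omega

/-- **The monomial case.** -/
theorem mon_ns {p : ℕ} [hp : Fact p.Prime] (hp5 : 5 ≤ p) (hn : 5 ≤ n) (hA : IRow p (alternatingGroup (Fin n)))
    {C : GL (Fin n) F} {π : Equiv.Perm (Fin n)} (hC : Mon (C : Matrix (Fin n) (Fin n) F) π) (hπ : orderOf π = p) :
    NS (Cfsg.Agent.ClassicalGeometry.AutPSL.Auto.lift (cj C)) := by
  set x := Cfsg.Agent.ClassicalGeometry.AutPSL.Auto.lift (cj C) with hx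
  have hC' : Mon ((C⁻¹ : GL (Fin n) F) : Matrix (Fin n) (Fin n) F) π⁻¹ := Mon.inv C.inv_mul C.mul_inv hC
  have key : ∀ {m : Matrix.ProjectiveSpecialLinearGroup (Fin n) F} {σ : Equiv.Perm (Fin n)}, Rel m σ →
      Rel (x m) (π * σ * π⁻¹) := by
    rintro _ σ ⟨g, rfl, hg⟩
    exact ⟨cj C g, rfl, (hC.mul hg).mul hC'⟩
  have hπA : π ∈ alternatingGroup (Fin n) := by
    rw [Equiv.Perm.mem_alternatingGroup]
    have h1 : (Equiv.Perm.sign π) ^ p = 1 := by rw [← map_pow, ← hπ, pow_orderOf_eq_one, map_one]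
    rcases Int.units_eq_one_or (Equiv.Perm.sign π) with h | h
    · exact h
    · exfalso
      rw [h, Odd.neg_one_pow (hp.out.odd_of_ne_two (by omega))] at h1
      exact absurd h1 (by decide)
  have hinv : ∀ m ∈ MA n F, x m ∈ MA n F := by
    rintro m ⟨σ, hσ, hm⟩
    exact ⟨π * σ * π⁻¹, mul_mem (mul_mem hπA hσ) (inv_mem hπA), key hm⟩
  have hsimple : IsSimpleGroup (alternatingGroup (Fin n)) :=
    alternatingGroup.isSimpleGroup (by rw [Nat.card_fin]; exact hn)
  set q : alternatingGroup (Fin n) := ⟨π, hπA⟩ with hq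
  have hqo : orderOf q = p := by rw [hq, Subgroup.orderOf_mk, hπ]
  -- the induced automorphism
  have hxo : orderOf (MulAut.conj q) = p := by
    apply orderOf_eq_prime
    · rw [← map_pow, ← hqo, pow_orderOf_eq_one, map_one]
    · intro h
      have h1 : q ∈ Subgroup.center (alternatingGroup (Fin n)) := by
        rw [Subgroup.mem_center_iff]
        intro g
        have h2 : MulAut.conj q g = g := by rw [h]; rfl
        rw [MulAut.conj_apply] at h2
        calc g * q = (q * g * q⁻¹) * q := by rw [h2]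
          _ = q * g := by group
      have h2 : Subgroup.center (alternatingGroup (Fin n)) = ⊥ := by
        rcases (inferInstance : (Subgroup.center (alternatingGroup (Fin n))).Normal).eq_bot_or_eq_top with h3 | h3
        · exact h3
        · exfalso
          apply Cfsg.Agent.H517.Alt.not_isSolvable hn
          apply Group.isSolvable_of_comm
          intro a b
          have h4 : a ∈ Subgroup.center (alternatingGroup (Fin n)) := by rw [h3]; trivial
          exact ((Subgroup.mem_center_iff.1 h4) b).symm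
      rw [h2, Subgroup.mem_bot] at h1
      rw [h1, orderOf_one] at hqo
      omega
  obtain ⟨y, hy, hyn⟩ := hA _ hxo
  obtain ⟨m, hm, hm2⟩ := exists_rel_two (F := F) y.2 (by rw [Subgroup.orderOf_coe]; exact hy)
  have hmM : m ∈ MA n F := ⟨y, y.2, hm⟩
  have hfy : prm (⟨m, hmM⟩ : MA n F) = y := Subtype.ext (prm_eq hm)
  refine ns_of_hom hinv prm (MulAut.conj q) ?_ (y := ⟨m, hmM⟩) (by rw [Subgroup.orderOf_mk]; exact hm2) ?_
  · intro m
    apply Subtype.ext
    obtain ⟨σ, hσ, hr⟩ := m.2
    rw [prm_eq (key hr), MulAut.conj_apply]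
    change _ = π * (prm m : Equiv.Perm (Fin n)) * π⁻¹
    rw [prm_eq hr]
  · rw [hfy]
    rw [solvable_iff] at hyn
    exact hyn

/-- `A_n` is smaller than `PSL_n(q)` -/
theorem card_alt_lt [Finite F] (hn : 2 ≤ n) :
    Nat.card (alternatingGroup (Fin n)) < Nat.card (Matrix.ProjectiveSpecialLinearGroup (Fin n) F) := by
  have h1 : Nat.card (alternatingGroup (Fin n)) ≤ Nat.card (MA n F) :=
    Nat.card_le_card_of_surjective _ (prm_surjective (F := F))
  refine lt_of_le_of_lt h1 ?_
  have h2 := (MA n F).card_le_card_group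
  refine lt_of_le_of_ne h2 fun h3 => MA_ne_top (F := F) hn ?_
  exact Subgroup.eq_top_of_card_eq _ h3

/-- the row of `A_n` from the induction hypothesis -/
theorem irow_alt_of_ih [Finite F] {p N : ℕ} (hn : 5 ≤ n) (hN : N = Nat.card (Matrix.ProjectiveSpecialLinearGroup (Fin n) F))
    (hI : IH.{u} p N) : IRow p (alternatingGroup (Fin n)) := by
  have hsimple : IsSimpleGroup (alternatingGroup (Fin n)) :=
    alternatingGroup.isSimpleGroup (by rw [Nat.card_fin]; exact hn)
  have e : alternatingGroup (Fin n) ≃* ULift.{u} (alternatingGroup (Fin n)) := MulEquiv.ulift.symm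
  have h1 : IsSimpleGroup (ULift.{u} (alternatingGroup (Fin n))) := by
    have : Nontrivial (ULift.{u} (alternatingGroup (Fin n))) := e.symm.toEquiv.nontrivial
    exact IsSimpleGroup.isSimpleGroup_of_surjective e.toMonoidHom e.surjective
  refine IRow.congr e (hI (ULift.{u} (alternatingGroup (Fin n))) ?_ ?_)
  · intro hc
    apply Cfsg.Agent.H517.Alt.not_isSolvable hn
    apply Group.isSolvable_of_comm
    intro a b
    apply e.injective
    rw [map_mul, map_mul]
    exact mul_comm' (e a) (e b)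
  · rw [← Nat.card_congr e.toEquiv, hN]
    exact card_alt_lt (by omega)

end Cfsg.Agent.H328.Inv
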